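import Groth.Prelude.Def_W4c6secantcecoversSchSt
import Mathlib.LinearAlgebra.Alternating.Basic
import Mathlib.LinearAlgebra.StdBasis

/-!
# The Scheja–Storch differential is self-adjoint
-/

set_option autoImplicit false
set_option maxHeartbeats 400000
universe u v

open W4c6secantcecovers TensorProduct

noncomputable section

namespace Groth.Agent.SchSt29

variable {R : Type u} [CommRing R] {r : ℕ}

theorem ιMulti_eq_zero {n : ℕ} (h : r < n) (e : Fin n → (Fin r → R)) : ExteriorAlgebra.ιMulti R n e = 0 := by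
  have : ExteriorAlgebra.ιMulti R n (M := Fin r → R) = 0 :=
    Module.Basis.ext_alternating (Pi.basisFun R (Fin r)) fun v hv =>
      absurd (Fintype.card_le_of_injective v hv) (by simp; omega)
  rw [this]; rfl

theorem ιMulti_mul {a b : ℕ} (e : Fin a → (Fin r → R)) (f : Fin b → (Fin r → R)) :
    ExteriorAlgebra.ιMulti R a e * ExteriorAlgebra.ιMulti R b f = ExteriorAlgebra.ιMulti R (a + b) (Fin.append e f) := by
  simp only [ExteriorAlgebra.ιMulti_apply]
  rw [← List.prod_append, ← List.ofFn_fin_append]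
  congr 2
  funext i
  refine Fin.addCases (fun x => ?_) (fun x => ?_) i <;> simp

theorem contr_mul (j : Fin r) {n : ℕ} (e : Fin n → (Fin r → R)) (b : SSLam R r) :
    ssContr R r j (ExteriorAlgebra.ιMulti R n e * b) =
      ssContr R r j (ExteriorAlgebra.ιMulti R n e) * b +
        ((-1 : R) ^ n) • (ExteriorAlgebra.ιMulti R n e * ssContr R r j b) := by
  induction n with
  | zero =>
    simp [ExteriorAlgebra.ιMulti_zero_apply, ssContr, CliffordAlgebra.contractLeft_one]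
  | succ n ih =>
    rw [ExteriorAlgebra.ιMulti_succ_apply]
    simp only [ssContr] at ih ⊢
    rw [mul_assoc, CliffordAlgebra.contractLeft_ι_mul, CliffordAlgebra.contractLeft_ι_mul, ih]
    rw [sub_mul, mul_add, smul_mul_assoc, mul_assoc, mul_smul_comm, pow_succ, mul_assoc]
    rw [mul_neg_one, neg_smul]
    abel

variable {N : Type v} [AddCommGroup N] [Module R N]

theorem ssPair_tmul (β : N →ₗ[R] N →ₗ[R] R) (k : ℕ) (ω η : SSLam R r) (s t : MvPolynomial (Fin r) R) (n m : N) :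
    ssPair R r N β k ((ω ⊗ₜ[R] s) ⊗ₜ[R] n) ((η ⊗ₜ[R] t) ⊗ₜ[R] m) =
      ((-1 : R) ^ k.choose 2 * β n m) • ((ω * η) ⊗ₜ[R] (s * t)) := by
  simp [ssPair, ssPairAux, mul_smul]

theorem ssDelta_tmul (φ : Fin r → (N →ₗ[R] N)) (ω : SSLam R r) (s : MvPolynomial (Fin r) R) (n : N) :
    ssDelta R r N φ ((ω ⊗ₜ[R] s) ⊗ₜ[R] n) = ∑ j : Fin r,
      ((ssContr R r j ω ⊗ₜ[R] (MvPolynomial.X j * s)) ⊗ₜ[R] n + (-1 : R) • ((ssContr R r j ω ⊗ₜ[R] s) ⊗ₜ[R] φ j n)) := by
  simp [ssDelta, ssDKoszul, ssDAct, LinearMap.sum_apply]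

theorem adjoint (φ : Fin r → (N →ₗ[R] N)) (β : N →ₗ[R] N →ₗ[R] R)
    (hβ : ∀ (j : Fin r) (n m : N), β (φ j n) m = β n (φ j m))
    (k : ℕ) (hk : k < r) (e : Fin (k + 1) → (Fin r → R)) (f : Fin (r - k) → (Fin r → R))
    (s t : MvPolynomial (Fin r) R) (n m : N) :
    ssPair R r N β k (ssDelta R r N φ ((ExteriorAlgebra.ιMulti R (k + 1) e ⊗ₜ[R] s) ⊗ₜ[R] n))
        ((ExteriorAlgebra.ιMulti R (r - k) f ⊗ₜ[R] t) ⊗ₜ[R] m) =
      ssPair R r N β (k + 1) ((ExteriorAlgebra.ιMulti R (k + 1) e ⊗ₜ[R] s) ⊗ₜ[R] n)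
        (ssDelta R r N φ ((ExteriorAlgebra.ιMulti R (r - k) f ⊗ₜ[R] t) ⊗ₜ[R] m)) := by
  set ω := ExteriorAlgebra.ιMulti R (k + 1) e
  set η := ExteriorAlgebra.ιMulti R (r - k) f
  have hz : ω * η = 0 := by rw [ιMulti_mul]; exact ιMulti_eq_zero (by omega) _
  have hsw : ∀ j, ssContr R r j ω * η = ((-1 : R) ^ k) • (ω * ssContr R r j η) := by
    intro j
    have := contr_mul j e η
    rw [hz, map_zero, pow_succ, mul_neg_one, neg_smul, ← sub_eq_add_neg] at this
    exact sub_eq_zero.1 this.symm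
  have hsign : (-1 : R) ^ k.choose 2 * (-1) ^ k = (-1) ^ (k + 1).choose 2 := by
    rw [← pow_add, Nat.choose_succ_succ' k 1, Nat.choose_one_right, add_comm]
  simp only [ssDelta_tmul, map_sum, LinearMap.sum_apply, map_add, map_smul, LinearMap.add_apply, LinearMap.smul_apply,
    ssPair_tmul, hsw, hβ, ← smul_tmul', smul_smul]
  refine Finset.sum_congr rfl fun j _ => ?_
  congr 1
  · rw [mul_assoc (MvPolynomial.X j), mul_left_comm s]
    congr 1
    rw [← hsign]; ring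
  · congr 1
    rw [← hsign]; ring

end Groth.Agent.SchSt29
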